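import Mathlib

/-! Additive polynomials of degree less than `p²` in characteristic `p`. -/

set_option autoImplicit false

universe u

open Polynomial

namespace Groth.Agent.GrpdTrunc

variable {A : Type u} [CommRing A]

/-- The substitution `Y ↦ C X`, `Z ↦ X`. -/
noncomputable def toNested : MvPolynomial (Fin 2) A →ₐ[A] A[X][X] :=
  MvPolynomial.aeval ![Polynomial.C Polynomial.X, Polynomial.X]

theorem toNested_X0 : toNested (MvPolynomial.X 0 : MvPolynomial (Fin 2) A) = C X := by
  simp [toNested]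

theorem toNested_X1 : toNested (MvPolynomial.X 1 : MvPolynomial (Fin 2) A) = X := by
  simp [toNested]

theorem coeff_coeff_mem_span (N : ℕ) (r : A[X][X]) (hr : r ∈ Ideal.span ({C X ^ N, X ^ N} : Set A[X][X]))
    (i j : ℕ) (hi : i < N) (hj : j < N) : (r.coeff j).coeff i = 0 := by
  obtain ⟨a, b, rfl⟩ := Ideal.mem_span_pair.1 hr
  rw [coeff_add, coeff_mul_X_pow', if_neg (Nat.not_le.2 hj), add_zero, ← C_pow, coeff_mul_C,
    coeff_mul_X_pow', if_neg (Nat.not_le.2 hi)]

theorem aeval_map_C (q : A[X]) (r : A[X][X]) : aeval r q = (q.map C).comp r := by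
  rw [comp, eval₂_map, aeval_def]
  congr 1

theorem coeff_coeff_add (q : A[X]) (i j : ℕ) :
    ((aeval (C X + X : A[X][X]) q).coeff j).coeff i = ((i + j).choose j : A) * q.coeff (i + j) := by
  rw [aeval_map_C, add_comm (C X : A[X][X]) X, ← taylor_apply, taylor_coeff,
    show (hasseDeriv j (q.map C)).eval X = hasseDeriv j q from ?_, hasseDeriv_coeff]
  have h : hasseDeriv j (q.map C) = (hasseDeriv j q).map C := by
    ext n : 1
    rw [coeff_map, hasseDeriv_coeff, hasseDeriv_coeff, coeff_map, map_mul, map_natCast]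
  rw [h, eval_map, eval₂_C_X]

theorem coeff_of_mem (q : A[X]) (N : ℕ)
    (h : Polynomial.aeval (MvPolynomial.X 0 + MvPolynomial.X 1 : MvPolynomial (Fin 2) A) q -
            Polynomial.aeval (MvPolynomial.X 0 : MvPolynomial (Fin 2) A) q -
            Polynomial.aeval (MvPolynomial.X 1 : MvPolynomial (Fin 2) A) q ∈
          Ideal.span ({MvPolynomial.X 0 ^ N, MvPolynomial.X 1 ^ N} : Set (MvPolynomial (Fin 2) A)))
    (i j : ℕ) (hi : i < N) (hj : j < N) :
    ((i + j).choose j : A) * q.coeff (i + j) =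
      (if j = 0 then q.coeff i else 0) + (if i = 0 then q.coeff j else 0) := by
  have h1 := Ideal.mem_map_of_mem (toNested : MvPolynomial (Fin 2) A →ₐ[A] A[X][X]).toRingHom h
  rw [Ideal.map_span, Set.image_pair] at h1
  simp only [AlgHom.toRingHom_eq_coe, RingHom.coe_coe, map_sub, map_pow, toNested_X0, toNested_X1,
    ← Polynomial.aeval_algHom_apply, map_add] at h1
  have h2 := coeff_coeff_mem_span N _ h1 i j hi hj
  rw [coeff_sub, coeff_sub, coeff_sub, coeff_sub, coeff_coeff_add, aeval_map_C q (C X), aeval_map_C q X, comp_X,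
    coeff_map, comp_C] at h2
  rw [eval_map, eval₂_C_X, coeff_C, coeff_C] at h2
  rw [sub_sub, sub_eq_zero] at h2
  rw [h2]
  congr 1
  split_ifs <;> simp

theorem natCast_unit {p : ℕ} [Fact p.Prime] [CharP A p] {n : ℕ} (h : ¬ p ∣ n) : IsUnit (n : A) := by
  have h1 : IsUnit (n : ZMod p) := (isUnit_iff_ne_zero).2 fun e => h ((ZMod.natCast_eq_zero_iff n p).1 e)
  simpa using h1.map (ZMod.castHom (dvd_refl p) A)

theorem choose_not_dvd {p n : ℕ} [hp : Fact p.Prime] (h1 : n ≠ 0) (h2 : n ≠ 1) (h3 : n ≠ p) (h4 : n < p ^ 2) :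
    ∃ i, 0 < i ∧ i < n ∧ ¬ p ∣ n.choose i := by
  by_cases hd : p ∣ n
  · obtain ⟨a, rfl⟩ := hd
    have ha : a < p := by
      rw [pow_two] at h4
      exact Nat.lt_of_mul_lt_mul_left h4
    have ha2 : 2 ≤ a := by
      rcases a with - | - | a
      · simp at h1
      · simp at h3
      · omega
    refine ⟨p, hp.out.pos, lt_mul_of_one_lt_right hp.out.pos ha2, fun hdvd => ?_⟩
    have h := Choose.choose_modEq_choose_mod_mul_choose_div_nat (n := p * a) (k := p) (p := p)
    simp only [Nat.mul_mod_right, Nat.mod_self, Nat.choose_zero_right, one_mul,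
      Nat.mul_div_cancel_left a hp.out.pos, Nat.div_self hp.out.pos, Nat.choose_one_right] at h
    have := (Nat.modEq_zero_iff_dvd.1 (h.symm.trans (Nat.modEq_zero_iff_dvd.2 hdvd)))
    exact absurd (Nat.le_of_dvd (by omega) this) (by omega)
  · exact ⟨1, one_pos, by omega, by rwa [Nat.choose_one_right]⟩

theorem additive_iff (p : ℕ) [hp : Fact p.Prime] [CharP A p] (q : A[X]) (hq : q.natDegree < p ^ 2) :
    Polynomial.aeval (MvPolynomial.X 0 + MvPolynomial.X 1 : MvPolynomial (Fin 2) A) q -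
          Polynomial.aeval (MvPolynomial.X 0 : MvPolynomial (Fin 2) A) q -
          Polynomial.aeval (MvPolynomial.X 1 : MvPolynomial (Fin 2) A) q ∈
        Ideal.span ({MvPolynomial.X 0 ^ p ^ 2, MvPolynomial.X 1 ^ p ^ 2} : Set (MvPolynomial (Fin 2) A)) ↔
      ∃ a₁ ap : A, q = C a₁ * X + C ap * X ^ p := by
  constructor
  · intro h
    refine ⟨q.coeff 1, q.coeff p, ?_⟩
    ext n
    have hpos : 0 < p ^ 2 := pow_pos hp.out.pos 2
    have h1p : p ≠ 1 := hp.out.ne_one
    rw [coeff_add, coeff_C_mul, coeff_C_mul, coeff_X, coeff_X_pow]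
    rcases eq_or_ne n 1 with rfl | hn1
    · simp [Ne.symm h1p]
    rcases eq_or_ne n p with rfl | hnp
    · simp [Ne.symm hn1]
    rw [if_neg (Ne.symm hn1), if_neg hnp, mul_zero, mul_zero, add_zero]
    rcases eq_or_ne n 0 with rfl | hn0
    · have := coeff_of_mem q _ h 0 0 hpos hpos
      simpa using this
    by_cases hN : n < p ^ 2
    · obtain ⟨i, hi0, hin, hdiv⟩ := choose_not_dvd (p := p) hn0 hn1 hnp hN
      have := coeff_of_mem q _ h (n - i) i (by omega) (by omega)
      rw [Nat.sub_add_cancel hin.le, if_neg hi0.ne', if_neg (by omega), add_zero] at this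
      exact (natCast_unit (A := A) hdiv).mul_right_eq_zero.1 this
    · exact coeff_eq_zero_of_natDegree_lt (by omega)
  · rintro ⟨a, b, rfl⟩
    haveI : CharP (MvPolynomial (Fin 2) A) p := inferInstance
    haveI : ExpChar (MvPolynomial (Fin 2) A) p := ExpChar.prime hp.out
    convert Ideal.zero_mem _
    simp only [map_add, map_mul, map_pow, aeval_C, aeval_X, add_pow_expChar]
    ring

theorem bijective_iff (p : ℕ) [hp : Fact p.Prime] [CharP A p] (a₁ ap : A)
    (I : Ideal A[X]) (hI : I = Ideal.span ({X ^ p ^ 2} : Set A[X]))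
    (φ : (A[X] ⧸ I) →ₐ[A] (A[X] ⧸ I))
    (hφ : φ (Ideal.Quotient.mk I X) = Ideal.Quotient.mk I (C a₁ * X + C ap * X ^ p)) :
    Function.Bijective φ ↔ IsUnit a₁ := by
  obtain ⟨w, hwdef⟩ : ∃ w : A[X], w = C a₁ * X + C ap * X ^ p := ⟨_, rfl⟩
  rw [← hwdef] at hφ
  have hcomp : ∀ r : A[X], φ (Ideal.Quotient.mk I r) = Ideal.Quotient.mk I (r.comp w) := by
    intro r
    have e : φ.comp (Ideal.Quotient.mkₐ A I) = (Ideal.Quotient.mkₐ A I).comp (aeval w) := by
      refine Polynomial.algHom_ext ?_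
      simp only [AlgHom.comp_apply, aeval_X]
      exact hφ
    exact DFunLike.congr_fun e r
  constructor
  · intro hb
    obtain ⟨r, hr⟩ := hb.2 (Ideal.Quotient.mk I X)
    obtain ⟨r, rfl⟩ := Ideal.Quotient.mk_surjective r
    rw [hcomp, Ideal.Quotient.eq, hI, Ideal.mem_span_singleton] at hr
    have h2 : 2 ≤ p ^ 2 := by nlinarith [hp.out.two_le]
    have h1 : (r.comp w - X).coeff 1 = 0 := by
      obtain ⟨c, hc⟩ := hr
      rw [hc, coeff_X_pow_mul', if_neg (by omega)]
    rw [coeff_sub, coeff_X_one, sub_eq_zero] at h1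
    have hw : (derivative w).eval 0 = a₁ := by
      subst hwdef; simp [derivative_pow, CharP.cast_eq_zero]
    have hc : ∀ s : A[X], s.coeff 1 = (derivative s).eval 0 := fun s => by
      rw [← coeff_zero_eq_eval_zero, coeff_derivative]; simp
    rw [hc, derivative_comp, eval_mul, eval_comp, hw] at h1
    exact IsUnit.of_mul_eq_one _ h1
  · intro ha
    have hr : ∀ z : A[X] ⧸ I, z ∈ φ.range := by
      intro z
      obtain ⟨z, rfl⟩ := Ideal.Quotient.mk_surjective z
      suffices hX : Ideal.Quotient.mk I X ∈ φ.range by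
        rw [← Ideal.Quotient.mkₐ_eq_mk A, ← aeval_X_left_apply z, ← aeval_algHom_apply]
        exact Algebra.adjoin_le (Set.singleton_subset_iff.2 hX) (aeval_mem_adjoin_singleton A _)
      have hy : Ideal.Quotient.mk I w ∈ φ.range := ⟨_, hφ⟩
      have hyp : Ideal.Quotient.mk I (w ^ p) = Ideal.Quotient.mk I (C (a₁ ^ p) * X ^ p) := by
        haveI : ExpChar A[X] p := ExpChar.prime hp.out
        rw [Ideal.Quotient.eq, hI, Ideal.mem_span_singleton]
        refine ⟨C (ap ^ p), ?_⟩
        subst hwdef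
        simp only [add_pow_expChar, mul_pow, ← C_pow, ← pow_mul, pow_two]
        ring
      obtain ⟨v, hv⟩ := ha
      have halg : ∀ c : A, Ideal.Quotient.mk I (C c) ∈ φ.range := fun c => φ.range.algebraMap_mem c
      have hXp : Ideal.Quotient.mk I (X ^ p) ∈ φ.range := by
        have h : Ideal.Quotient.mk I (X ^ p) =
            Ideal.Quotient.mk I (C ((↑v⁻¹ : A) ^ p)) * Ideal.Quotient.mk I (w ^ p) := by
          rw [hyp, ← map_mul, ← mul_assoc, ← C_mul, ← mul_pow, ← hv, Units.inv_mul, one_pow, C_1, one_mul]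
        rw [h]
        exact mul_mem (halg _) (by rw [map_pow]; exact pow_mem hy p)
      have h : Ideal.Quotient.mk I X =
          Ideal.Quotient.mk I (C (↑v⁻¹ : A)) * (Ideal.Quotient.mk I w - Ideal.Quotient.mk I (C ap) * Ideal.Quotient.mk I (X ^ p)) := by
        rw [← map_mul, ← map_sub, ← map_mul]
        congr 1
        rw [show w - C ap * X ^ p = C a₁ * X by simp [hwdef], ← mul_assoc, ← C_mul, ← hv, Units.inv_mul, C_1, one_mul]
      rw [h]
      exact mul_mem (halg _) (sub_mem hy (mul_mem (halg _) hXp))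
    have hs : Function.Surjective φ := fun z => hr z
    haveI : Module.Finite A (A[X] ⧸ I) := hI ▸ (monic_X_pow (p ^ 2)).finite_quotient
    exact ⟨OrzechProperty.injective_of_surjective_endomorphism φ.toLinearMap hs, hs⟩

end Groth.Agent.GrpdTrunc
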